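import Mathlib

/-!
The determinant of the action on a homocyclic group of exponent four.
-/

set_option autoImplicit false
set_option linter.style.haveILetI false

namespace Cfsg.Agent.ZE

theorem free_of_card {A : Type*} [AddCommGroup A] [Finite A] [Module (ZMod 4) A] {n : ℕ}
    (h1 : Nat.card A = 4 ^ n) (h2 : {x : A | x + x = 0}.ncard = 2 ^ n) :
    Nonempty (Module.Basis (Fin n) (ZMod 4) A) := by
  classical
  let s : A →+ A := (2 : ℕ) • AddMonoidHom.id A
  have hs : ∀ x, s x = x + x := fun x => two_nsmul x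
  have hk : Nat.card s.ker = 2 ^ n := by
    rw [← h2, ← Nat.card_coe_set_eq]
    exact Nat.card_congr (Equiv.subtypeEquivRight fun x => by
      rw [AddMonoidHom.mem_ker, hs]; rfl)
  have hq : Nat.card (A ⧸ s.range) = 2 ^ n := by
    have e1 := AddSubgroup.card_eq_card_quotient_mul_card_addSubgroup s.ker
    have e2 := AddSubgroup.card_eq_card_quotient_mul_card_addSubgroup s.range
    rw [Nat.card_congr (QuotientAddGroup.quotientKerEquivRange s).toEquiv, hk, e2, mul_comm] at e1
    exact Nat.eq_of_mul_eq_mul_left Nat.card_pos e1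
  letI : Module (ZMod 2) (A ⧸ s.range) := AddCommGroup.zmodModule (by
    rintro ⟨x⟩
    exact (QuotientAddGroup.eq_zero_iff (2 • x)).2 ⟨x, rfl⟩)
  haveI : Fact (Nat.Prime 2) := ⟨Nat.prime_two⟩
  have hr : Module.finrank (ZMod 2) (A ⧸ s.range) = n := by
    have := Module.natCard_eq_pow_finrank (K := ZMod 2) (V := A ⧸ s.range)
    rw [hq, Nat.card_zmod] at this
    exact (Nat.pow_right_injective le_rfl this).symm
  let b := Module.finBasisOfFinrankEq (ZMod 2) (A ⧸ s.range) hr
  choose x hx using fun i => QuotientAddGroup.mk_surjective (b i)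
  let f : (Fin n → ZMod 4) →ₗ[ZMod 4] A := Fintype.linearCombination (ZMod 4) x
  have hxm : ∀ i, x i ∈ LinearMap.range f := fun i =>
    ⟨Pi.single i 1, by simp [f, Fintype.linearCombination_apply_single]⟩
  have key : ∀ a : A, ∃ y ∈ LinearMap.range f, ∃ c, a = y + (c + c) := by
    intro a
    have h3 := b.sum_repr (QuotientAddGroup.mk a)
    have h4 : ∀ i, b.repr (QuotientAddGroup.mk a) i • b i =
        QuotientAddGroup.mk ((b.repr (QuotientAddGroup.mk a) i).val • x i) := by
      intro i
      rw [QuotientAddGroup.mk_nsmul, hx, ← Nat.cast_smul_eq_nsmul (ZMod 2), ZMod.natCast_zmod_val]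
    simp only [h4] at h3
    rw [← QuotientAddGroup.mk_sum, QuotientAddGroup.eq] at h3
    obtain ⟨c, hc⟩ := h3
    refine ⟨_, Submodule.sum_mem _ fun i (_ : i ∈ Finset.univ) =>
      nsmul_mem (hxm i) (b.repr (QuotientAddGroup.mk a) i).val, c, ?_⟩
    rw [← hs, hc, add_neg_cancel_left]
  have hsurj : Function.Surjective f := by
    intro a
    obtain ⟨y, hy, c, rfl⟩ := key a
    obtain ⟨z, hz, e, rfl⟩ := key c
    have h4 : e + e + (e + e) = 0 := by
      have : ((4 : ℕ) : ZMod 4) • e = 0 := by rw [show ((4 : ℕ) : ZMod 4) = 0 from rfl, zero_smul]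
      rw [Nat.cast_smul_eq_nsmul] at this
      rw [← this]; abel
    have : y + (z + (e + e) + (z + (e + e))) = y + z + z + (e + e + (e + e)) := by abel
    rw [this, h4, add_zero]
    exact add_mem (add_mem hy hz) hz
  have hbij := hsurj.bijective_of_nat_card_le (by simp [h1])
  exact ⟨(Pi.basisFun (ZMod 4) (Fin n)).map (LinearEquiv.ofBijective f hbij)⟩

/-- An element inverting a normal homocyclic subgroup of exponent four and odd rank is detected
by a homomorphism to a group of order two. -/
theorem det4 {H : Type*} [Group H] [Finite H] (X : Subgroup H) [hX : X.Normal]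
    (hc : ∀ x ∈ X, ∀ y ∈ X, x * y = y * x) (h4 : ∀ x ∈ X, x ^ 4 = 1) {n : ℕ} (hn : Odd n)
    (h1 : Nat.card X = 4 ^ n) (h2 : {x | x ∈ X ∧ x * x = 1}.ncard = 2 ^ n) {w : H}
    (hw : ∀ x ∈ X, w * x * w⁻¹ = x⁻¹) : ∃ φ : H →* (ZMod 4)ˣ, φ w ≠ 1 := by
  letI : CommGroup X := { (inferInstance : Group X) with
    mul_comm := fun x y => Subtype.ext (hc x x.2 y y.2) }
  letI : Module (ZMod 4) (Additive X) := AddCommGroup.zmodModule fun x =>
    Subtype.ext (h4 _ (Additive.toMul x).2)
  obtain ⟨b⟩ := free_of_card (A := Additive X) h1 (by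
    rw [← h2]
    refine Set.ncard_congr (fun x _ => ((Additive.toMul x : X) : H))
      (fun x hx => ⟨(Additive.toMul x).2, congrArg Subtype.val hx⟩) (fun x y _ _ e => Subtype.ext e)
      fun y hy => ⟨Additive.ofMul ⟨y, hy.1⟩, Subtype.ext hy.2, rfl⟩)
  haveI := Module.Free.of_basis b
  haveI : Nontrivial (ZMod 4) := ⟨⟨0, 1, by decide⟩⟩
  let ρ : H →* Module.End (ZMod 4) (Additive X) :=
    { toFun := fun g => AddMonoidHom.toZModLinearMap 4
        (MonoidHom.toAdditive (MulAut.conjNormal (H := X) g).toMonoidHom)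
      map_one' := LinearMap.ext fun x => Subtype.ext (by
        change (1 : H) * ((Additive.toMul x : X) : H) * 1⁻¹ = (Additive.toMul x : X)
        simp)
      map_mul' := fun g k => LinearMap.ext fun x => Subtype.ext (by
        change (g * k) * ((Additive.toMul x : X) : H) * (g * k)⁻¹ =
          g * (k * ((Additive.toMul x : X) : H) * k⁻¹) * g⁻¹
        group) }
  refine ⟨(LinearMap.det.comp ρ).toHomUnits, fun e => ?_⟩
  have e1 : LinearMap.det (ρ w) = 1 := congrArg Units.val e
  have e2 : ρ w = (-1 : ZMod 4) • LinearMap.id := LinearMap.ext fun x => by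
    rw [LinearMap.smul_apply, LinearMap.id_apply, neg_one_smul]
    exact Subtype.ext (hw _ (Additive.toMul x).2)
  rw [e2, LinearMap.det_smul, LinearMap.det_id, mul_one, Module.finrank_eq_card_basis b,
    Fintype.card_fin, hn.neg_one_pow] at e1
  exact absurd e1 (by decide)

end Cfsg.Agent.ZE
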